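import Cfsg.Agent.H330.Gow
import Cfsg.Agent.H732.VZ.Bridge
import Cfsg.Agent.H123.BlockRed
import Cfsg.Agent.H65.Ore.Prd
import Cfsg.Agent.H530.OZ.Cover
import Cfsg.Agent.S0924
import Cfsg.Agent.Solvable.UniqueOrderP

/-!
# Two isolated primes and the sum over the `p`-elements: products of two classes (S4173, S2464, S2452; helper727)

`G` simple of Lie type in characteristic `p`, `|G|_p = p ^ a`, `Kaw p G` (Kawanaka: the sum of an irreducible character `χ`
over the `p`-elements is `± p ^ m χ(1)`).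

* `Isol G p r z` : `z` of odd prime order `r ≠ p` with cyclic Sylow `r`-subgroups central in `C_G(z)` (elementwise form),
  `C_G(z)` without nontrivial `p`-elements.
* `Isol.not_dvd` : `χ(y) ≠ 0` for an element `y` whose `r`-part has `z` as a power implies `r ∤ χ(1)` (defect groups).
* `Isol.cong` : then `± p ^ m ≡ 1 (mod r)`.
* `prd_sing` : if every irreducible `χ ≠ 1` with `χ(x) χ(y) ≠ 0` has `m = 0`, then every `p`-singular element is a product of
  a conjugate of `x` and a conjugate of `y` (only the trivial character contributes).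
* `two_of_isol` : `x`, `y` isolated for `r₁`, `r₂` and no `0 < m < 2 a`, `e = ±1` with `e p ^ m ≡ 1` modulo `r₁` and `r₂`:
  every `g ≠ 1` is a product of a conjugate of `x` and a conjugate of `y` (Gow for the `p`-regular `g`).
-/

set_option autoImplicit false

open Cfsg Subgroup

namespace Cfsg.Agent.H727.TC

open Cfsg.Agent.Characters Cfsg.Agent.H730.OZ Cfsg.Agent.H732.VZ Cfsg.Agent.H65.Ore
open scoped ComplexConjugate

universe u

variable {G : Type u} [Group G]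

/-- an isolated element of odd prime order -/
structure Isol (G : Type u) [Group G] (p r : ℕ) (z : G) : Prop where
  prime : r.Prime
  odd : r ≠ 2
  ne : r ≠ p
  ord : orderOf z = r
  cyc : ∀ y, Commute z y → r ∣ orderOf y → z ∈ Subgroup.zpowers y
  idx : ∀ y, Commute z y → r ∣ orderOf y → ¬ r ∣ (Subgroup.centralizer ({y} : Set G)).index
  pel : ∀ v, Commute z v → (∃ k, orderOf v = p ^ k) → v = 1

theorem Isol.of_iso {p r : ℕ} (h : Iso G p r) (h2 : r ≠ 2) : ∃ z : G, Isol G p r z := by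
  obtain ⟨hr, hrp, z, hz, h1, h2', h3, -⟩ := h
  exact ⟨z, hr, h2, hrp, hz, h1, h2', h3⟩

theorem isPPart_self [Finite G] {r : ℕ} {z : G} (hr : r.Prime) (hz : orderOf z = r) : IsPPart r z z := by
  refine ⟨1, mul_one z, Commute.one_right z, ⟨1, by rw [hz, pow_one]⟩, ?_⟩
  rw [orderOf_one]
  exact fun h => hr.one_lt.ne' (Nat.dvd_one.1 h)

/-- **Degrees.** -/
theorem not_dvd_of_ne_zero [Finite G] {r : ℕ} (hr : r.Prime) (hr2 : r ≠ 2) {z : G} (hz : orderOf z = r)
    (h1 : ∀ y, Commute z y → r ∣ orderOf y → z ∈ Subgroup.zpowers y)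
    (h2 : ∀ y, Commute z y → r ∣ orderOf y → ¬ r ∣ (Subgroup.centralizer ({y} : Set G)).index)
    (χ : IrrCharacter G) {x y : G} (hx : IsPPart r y x) (hzx : z ∈ Subgroup.zpowers x)
    (hy : (χ : G → ℂ) y ≠ 0) : ¬ r ∣ charDegree (χ : G → ℂ) := by
  intro hd
  have : Fact r.Prime := ⟨hr⟩
  obtain ⟨M, hM⟩ := Blocks.ExistsModular.exists_isPModular hr
  have : M.IsPrime := hM.2.1.isPrime
  have hB : IsPBlock M (blockOf M (χ : G → ℂ)) := Blocks.Basic.isPBlock_blockOf χ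
  have hχB : χ ∈ blockOf M (χ : G → ℂ) := Blocks.Basic.mem_blockOf_self χ
  have hpos : charDegree (χ : G → ℂ) ≠ 0 := (Blocks.Basic.charDegree_pos χ.2).ne'
  apply hy
  refine S0924.result r M hM χ y x hx fun D hD hxD => ?_
  have hzD : z ∈ D := (zpowers_le.2 hxD) hzx
  have hdef := S0908.result r M hM _ hB D hD
  have hDp : IsPGroup r D := IsPGroup.of_card hdef
  have hz1 : z ≠ 1 := by
    rintro rfl
    rw [orderOf_one] at hz
    exact hr.one_lt.ne hz
  -- `D` is a Sylow subgroup of the centralizer of `g`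
  obtain ⟨g, -, P, hDP⟩ := id hD
  have hzg : Commute z g := by
    rw [hDP] at hzD
    obtain ⟨w, -, rfl⟩ := hzD
    have h3 := w.2
    rw [mem_centralizer_singleton_iff] at h3
    exact h3
  have hidx : ¬ r ∣ (centralizer ({g} : Set G)).index := by
    by_cases hg : r ∣ orderOf g
    · exact h2 g hzg hg
    · have hcop : Nat.Coprime (orderOf z) (orderOf g) := by
        rw [hz]
        exact (Nat.Prime.coprime_iff_not_dvd hr).2 hg
      have ho : orderOf (z * g) = orderOf z * orderOf g := hzg.orderOf_mul_eq_mul_orderOf_of_coprime hcop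
      have h3 := h2 (z * g) ((Commute.refl z).mul_right hzg) (by rw [ho, hz]; exact dvd_mul_right _ _)
      intro h4
      refine h3 (h4.trans (index_dvd_of_le ?_))
      intro w hw
      rw [mem_centralizer_singleton_iff] at hw ⊢
      -- `g` is a power of `z * g`
      obtain ⟨j, hj1, hj2⟩ := Nat.chineseRemainder hcop 0 1
      have hzj : z ^ j = 1 := by
        rw [← orderOf_dvd_iff_pow_eq_one]
        exact (Nat.modEq_zero_iff_dvd).1 hj1
      have hgj : g ^ j = g := by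
        conv_rhs => rw [← pow_one g]
        exact pow_eq_pow_iff_modEq.2 hj2
      have hj : (z * g) ^ j = g := by rw [hzg.mul_pow, hzj, hgj, one_mul]
      have h5 : Commute w (z * g) := hw
      have h6 := h5.pow_right j
      rw [hj] at h6
      exact h6
  have hDcard : Nat.card D = r ^ (Nat.card G).factorization r := by
    have h3 : Nat.card D = Nat.card P := by
      rw [hDP]
      exact Nat.card_congr (P.1.equivMapOfInjective _ (subtype_injective _)).toEquiv.symm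
    rw [h3, P.card_eq_multiplicity]
    congr 1
    have h4 : Nat.card (centralizer ({g} : Set G)) * (centralizer ({g} : Set G)).index = Nat.card G :=
      card_mul_index _
    rw [← h4, Nat.factorization_mul Nat.card_pos.ne' (index_ne_zero_of_finite), Finsupp.add_apply,
      Nat.factorization_eq_zero_of_not_dvd hidx, add_zero]
  have hv : 1 ≤ (Nat.card G).factorization r := by
    have h3 : r ∣ Nat.card G := by rw [← hz]; exact orderOf_dvd_natCard z
    exact (hr.dvd_iff_one_le_factorization Nat.card_pos.ne').1 h3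
  -- `z` is central in `D`
  have hord : ∀ c ∈ D, c ≠ 1 → r ∣ orderOf c := by
    intro c hc hc1
    obtain ⟨k, hk⟩ := hDp ⟨c, hc⟩
    have hk' : c ^ r ^ k = 1 := congrArg Subtype.val hk
    obtain ⟨j, -, hj⟩ := (Nat.dvd_prime_pow hr).1 (orderOf_dvd_of_pow_eq_one hk')
    rcases Nat.eq_zero_or_pos j with rfl | hj0
    · rw [pow_zero] at hj
      exact absurd (orderOf_eq_one_iff.1 hj) hc1
    · rw [hj]
      exact dvd_pow_self r hj0.ne'
  have hcen : ∀ c ∈ D, Commute z c := by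
    have : Nontrivial D := ⟨⟨⟨z, hzD⟩, 1, fun h => hz1 (congrArg Subtype.val h)⟩⟩
    obtain ⟨c, hc⟩ := (nontrivial_iff_exists_ne_one _).1 hDp.center_nontrivial
    obtain ⟨hcc, hc1⟩ := hc
    have hc1' : (c : G) ≠ 1 := fun h => hc1 (Subtype.ext h)
    have hcz : Commute z (c : G) := by
      have := mem_center_iff.1 hcc ⟨z, hzD⟩
      exact congrArg Subtype.val this
    have h3 := h1 (c : G) hcz (hord c c.2 hc1')
    intro d hd'
    obtain ⟨k, hk⟩ := mem_zpowers_iff.1 h3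
    have h4 : Commute d (c : G) := by
      have := mem_center_iff.1 hcc ⟨d, hd'⟩
      exact congrArg Subtype.val this
    rw [← hk]
    exact (h4.zpow_right k).symm
  have hcyc : IsCyclic D := by
    refine Solvable.UniqueOrderP.isCyclic_of_uniqueP hr2 hDp ?_
    intro s t hs1 hsr htr
    have hs1' : (s : G) ≠ 1 := fun h => hs1 (Subtype.ext h)
    have key : ∀ w : D, w ≠ 1 → w ^ r = 1 → zpowers (w : G) = zpowers z := by
      intro w hw1 hwr
      have hw1' : (w : G) ≠ 1 := fun h => hw1 (Subtype.ext h)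
      have h3 : z ∈ zpowers (w : G) := h1 _ (hcen w w.2) (hord w w.2 hw1')
      have hwo : orderOf (w : G) = r := by
        rw [Subgroup.orderOf_coe]
        exact orderOf_eq_prime hwr hw1
      refine (eq_of_le_of_card_ge (zpowers_le.2 h3) ?_).symm
      rw [Nat.card_zpowers, Nat.card_zpowers, hwo, hz]
    by_cases ht1 : t = 1
    · rw [ht1]; exact one_mem _
    have h3 : (t : G) ∈ zpowers (s : G) := by
      rw [key s hs1 hsr, ← key t ht1 htr]
      exact mem_zpowers _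
    obtain ⟨k, hk⟩ := mem_zpowers_iff.1 h3
    exact mem_zpowers_iff.2 ⟨k, Subtype.ext (by rw [← hk]; rfl)⟩
  have hh := H123.BlockRed.height_eq_zero hM hB hD hcyc hv hDcard hχB
  rw [hDcard] at hdef
  have h3 := Nat.pow_right_injective hr.two_le hdef
  have hmin : sInf ((fun ψ : IrrCharacter G => (charDegree (ψ : G → ℂ)).factorization r) ''
      blockOf M (χ : G → ℂ)) ≤ (charDegree (χ : G → ℂ)).factorization r := Nat.sInf_le ⟨χ, hχB, rfl⟩
  unfold blockDefect at h3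
  unfold blockHeight at hh
  have h5 := (hr.dvd_iff_one_le_factorization hpos).1 hd
  omega

theorem Isol.not_dvd [Finite G] {p r : ℕ} {z : G} (h : Isol G p r z) (χ : IrrCharacter G) {x y : G}
    (hx : IsPPart r y x) (hzx : z ∈ Subgroup.zpowers x) (hy : (χ : G → ℂ) y ≠ 0) :
    ¬ r ∣ charDegree (χ : G → ℂ) :=
  not_dvd_of_ne_zero h.prime h.odd h.ord h.cyc h.idx χ hx hzx hy

/-- **The congruence.** -/
theorem Isol.cong [Finite G] {p r : ℕ} (hp : p.Prime) {z : G} (h : Isol G p r z) (χ : IrrCharacter G)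
    (hχ : ¬ r ∣ charDegree (χ : G → ℂ)) {m : ℕ} {e : ℤ}
    (hs : ∑ᶠ u ∈ pSet p G, (χ : G → ℂ) u = (e : ℂ) * (p : ℂ) ^ m * (χ : G → ℂ) 1) :
    (r : ℤ) ∣ e * p ^ m - 1 := by
  have h7 := (basic hp h.prime h.ne h.ord χ hχ
    (fun v hv hvp => by rw [h.pel v hv hvp, mul_one]) hs).2
  have h8 : Nat.card {v : G // Commute z v ∧ ∃ k : ℕ, orderOf v = p ^ k} = 1 := by
    rw [Nat.card_eq_one_iff_unique]
    refine ⟨⟨fun v w => Subtype.ext ?_⟩, ⟨1, Commute.one_right z, 0, by simp⟩⟩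
    rw [h.pel v.1 v.2.1 v.2.2, h.pel w.1 w.2.1 w.2.2]
  rw [h8] at h7
  exact_mod_cast h7

/-- the centralizer of an isolated element has order prime to `p` -/
theorem Isol.card [Finite G] {p r : ℕ} (hp : p.Prime) {z : G} (h : Isol G p r z) :
    ¬ p ∣ Nat.card (centralizer ({z} : Set G)) := by
  intro hd
  have : Fact p.Prime := ⟨hp⟩
  obtain ⟨v, hv⟩ := exists_prime_orderOf_dvd_card' p hd
  have h1 := h.pel (v : G) (by
    have := v.2
    rw [mem_centralizer_singleton_iff] at this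
    exact this.symm) ⟨1, by rw [Subgroup.orderOf_coe, hv, pow_one]⟩
  have h2 : v = 1 := Subtype.ext h1
  rw [h2, orderOf_one] at hv
  exact hp.one_lt.ne hv

/-- a character with `m = 0` vanishes on the `p`-singular elements -/
theorem zero_of_kaw [Finite G] {p : ℕ} (hp : p.Prime) (χ : IrrCharacter G) {e : ℤ} (he : e = 1 ∨ e = -1)
    (hs : ∑ᶠ u ∈ pSet p G, (χ : G → ℂ) u = (e : ℂ) * (p : ℂ) ^ 0 * (χ : G → ℂ) 1) {g : G} (hg : p ∣ orderOf g) :
    (χ : G → ℂ) g = 0 := by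
  have hd : ((charDegree (χ : G → ℂ) : ℕ) : ℂ) = (χ : G → ℂ) 1 :=
    H686.CharKit.charDegree_cast (Core.isIrr_isCharacter χ.2)
  refine zero_of_defect (a := (Nat.card G).factorization p) hp (Nat.ordProj_mul_ordCompl_eq_self _ _).symm
    (Nat.not_dvd_ordCompl hp Nat.card_pos.ne') χ ?_ hg
  obtain ⟨z, hzz⟩ := frob hp χ.2
  rw [hs, pow_zero, mul_one, ← hd] at hzz
  have h2 : e * (charDegree (χ : G → ℂ) : ℤ) = ((p ^ (Nat.card G).factorization p : ℕ) : ℤ) * z := by
    exact_mod_cast hzz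
  have h3 : ((p ^ (Nat.card G).factorization p : ℕ) : ℤ) ∣ (charDegree (χ : G → ℂ) : ℤ) := by
    rcases he with rfl | rfl
    · exact ⟨z, by rw [← h2, one_mul]⟩
    · exact ⟨-z, by rw [mul_neg, ← h2]; ring⟩
  exact_mod_cast h3

/-- the trivial character is the only one with `m = 2 a` -/
theorem eq_one_of_top [Finite G] [hs : IsSimpleGroup G] {p : ℕ} (hp : p.Prime) (hpG : p ∣ Nat.card G)
    (hK : Kaw p G) (χ : IrrCharacter G) {m : ℕ} {e : ℤ} (he : e = 1 ∨ e = -1)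
    (hsum : ∑ᶠ u ∈ pSet p G, (χ : G → ℂ) u = (e : ℂ) * (p : ℂ) ^ m * (χ : G → ℂ) 1)
    (hm : m = 2 * (Nat.card G).factorization p) : ∀ g : G, (χ : G → ℂ) g = (χ : G → ℂ) 1 := by
  have hall := (hK.top hp χ.2 he hsum).2 hm
  obtain ⟨u, hu⟩ := @exists_prime_orderOf_dvd_card' G _ _ p ⟨hp⟩ hpG
  have hu1 : (χ : G → ℂ) u = (χ : G → ℂ) 1 := hall u ⟨1, by rw [hu, pow_one]⟩
  have huK : u ∈ H686.CharKit.chKer χ := H686.CharKit.mem_chKer.2 hu1
  have hKtop : H686.CharKit.chKer χ = ⊤ := by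
    rcases hs.eq_bot_or_eq_top_of_normal (H686.CharKit.chKer χ) inferInstance with h | h
    · exfalso
      rw [h, Subgroup.mem_bot] at huK
      rw [huK, orderOf_one] at hu
      exact hp.one_lt.ne hu
    · exact h
  intro g
  exact H686.CharKit.mem_chKer.1 (by rw [hKtop]; exact Subgroup.mem_top _)

/-- an irreducible character constant on `G` is the trivial one -/
theorem eq_one1_of_const [Finite G] (χ : IrrCharacter G) (h : ∀ g : G, (χ : G → ℂ) g = (χ : G → ℂ) 1) :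
    χ = one1 G := by
  by_contra hcon
  have := Fintype.ofFinite G
  have h1 := Core.classInner_irr_ne χ.2 Core.isIrr_one (coe_ne_one hcon)
  have h2 : (χ : G → ℂ) = ((χ : G → ℂ) 1) • (1 : G → ℂ) := by
    funext x
    rw [Pi.smul_apply, Pi.one_apply, smul_eq_mul, mul_one, h]
  rw [h2, Core.classInner_smul_left, Core.classInner_irr_self Core.isIrr_one, mul_one] at h1
  exact Core.isIrr_apply_one_ne_zero χ.2 h1

/-- **The `p`-singular elements**: only the trivial character contributes to the class sum. -/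
theorem prd_sing [Finite G] [IsSimpleGroup G] {p : ℕ} (hp : p.Prime) (hK : Kaw p G) {x y : G}
    (h : ∀ χ : IrrCharacter G, (χ : G → ℂ) x ≠ 0 → (χ : G → ℂ) y ≠ 0 → ∀ (m : ℕ) (e : ℤ), (e = 1 ∨ e = -1) →
      ∑ᶠ u ∈ pSet p G, (χ : G → ℂ) u = (e : ℂ) * (p : ℂ) ^ m * (χ : G → ℂ) 1 → 0 < m →
      m < 2 * (Nat.card G).factorization p → False)
    {g : G} (hg : p ∣ orderOf g) : Prd x y g := by
  classical
  have := Core.finite_irr (G := G)
  have : Fintype (IrrCharacter G) := Fintype.ofFinite _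
  have hpG : p ∣ Nat.card G := hg.trans (orderOf_dvd_natCard g)
  apply prd_of_ne_zero
  rw [Finset.sum_eq_single (one1 G)]
  · simp [one1_apply]
  · intro χ _ hne
    by_cases hx : (χ : G → ℂ) x = 0
    · rw [hx]; simp
    by_cases hy : (χ : G → ℂ) y = 0
    · rw [hy]; simp
    obtain ⟨m, e, he, hs⟩ := hK.sum χ χ.2
    obtain ⟨hmle, -⟩ := hK.top hp χ.2 he hs
    rcases Nat.eq_zero_or_pos m with rfl | hm0
    · rw [zero_of_kaw hp χ he hs hg]; simp
    · exfalso
      rcases hmle.lt_or_eq with hlt | heq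
      · exact h χ hx hy m e he hs hm0 hlt
      · exact hne (eq_one1_of_const χ (eq_one_of_top hp hpG hK χ he hs heq))
  · simp

/-- **Two classes from characters** (Gow for the `p`-regular elements). -/
theorem two_of_char [Finite G] {p : ℕ} (hp : p.Prime) (hG : IsLieTypeChar p G) (hK : Kaw p G) {x y : G}
    (hx : ¬ p ∣ Nat.card (centralizer ({x} : Set G))) (hy : ¬ p ∣ Nat.card (centralizer ({y} : Set G)))
    (h : ∀ χ : IrrCharacter G, (χ : G → ℂ) x ≠ 0 → (χ : G → ℂ) y ≠ 0 → ∀ (m : ℕ) (e : ℤ), (e = 1 ∨ e = -1) →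
      ∑ᶠ u ∈ pSet p G, (χ : G → ℂ) u = (e : ℂ) * (p : ℂ) ^ m * (χ : G → ℂ) 1 → 0 < m →
      m < 2 * (Nat.card G).factorization p → False)
    (g : G) (hg : g ≠ 1) : ∃ u v : G, g = (u * x * u⁻¹) * (v * y * v⁻¹) := by
  have : IsSimpleGroup G := H400.LieSimple.isSimple_of_lie hG
  by_cases hpg : p ∣ orderOf g
  · exact prd_sing hp hK h hpg
  · obtain ⟨u, v, e⟩ := H330.Gow.gow hp hG hx hy hg hpg
    exact ⟨u, v, e.symm⟩

/-- the condition on the characters from two isolated primes -/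
theorem char_of_isol [Finite G] {p : ℕ} (hp : p.Prime) {r₁ r₂ : ℕ} {x y : G}
    (hx : Isol G p r₁ x) (hy : Isol G p r₂ y)
    (ha : ∀ (m : ℕ) (e : ℤ), (e = 1 ∨ e = -1) → 0 < m → m < 2 * (Nat.card G).factorization p →
      (r₁ : ℤ) ∣ e * p ^ m - 1 → (r₂ : ℤ) ∣ e * p ^ m - 1 → False)
    (χ : IrrCharacter G) (hχx : (χ : G → ℂ) x ≠ 0) (hχy : (χ : G → ℂ) y ≠ 0) (m : ℕ) (e : ℤ)
    (he : e = 1 ∨ e = -1)
    (hs : ∑ᶠ u ∈ pSet p G, (χ : G → ℂ) u = (e : ℂ) * (p : ℂ) ^ m * (χ : G → ℂ) 1) (hm0 : 0 < m)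
    (hm : m < 2 * (Nat.card G).factorization p) : False :=
  ha m e he hm0 hm
    (hx.cong hp χ (hx.not_dvd χ (isPPart_self hx.prime hx.ord) (mem_zpowers x) hχx) hs)
    (hy.cong hp χ (hy.not_dvd χ (isPPart_self hy.prime hy.ord) (mem_zpowers y) hχy) hs)

/-- **Two classes from two isolated primes.** -/
theorem two_of_isol [Finite G] {p : ℕ} (hp : p.Prime) (hG : IsLieTypeChar p G) (hK : Kaw p G) {r₁ r₂ : ℕ}
    {x y : G} (hx : Isol G p r₁ x) (hy : Isol G p r₂ y)
    (ha : ∀ (m : ℕ) (e : ℤ), (e = 1 ∨ e = -1) → 0 < m → m < 2 * (Nat.card G).factorization p →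
      (r₁ : ℤ) ∣ e * p ^ m - 1 → (r₂ : ℤ) ∣ e * p ^ m - 1 → False)
    (g : G) (hg : g ≠ 1) : ∃ u v : G, g = (u * x * u⁻¹) * (v * y * v⁻¹) :=
  two_of_char hp hG hK (hx.card hp) (hy.card hp) (char_of_isol hp hx hy ha) g hg

/-- **The criterion** in the language of `H732.VZ.Iso`: two elements of the orders `r₁`, `r₂`. -/
theorem two_of_iso [Finite G] {p : ℕ} (hp : p.Prime) (hG : IsLieTypeChar p G) (hK : Kaw p G) {r₁ r₂ : ℕ}
    (h₁ : Iso G p r₁) (h₂ : Iso G p r₂) (hr₁ : r₁ ≠ 2) (hr₂ : r₂ ≠ 2)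
    (ha : ∀ (m : ℕ) (e : ℤ), (e = 1 ∨ e = -1) → 0 < m → m < 2 * (Nat.card G).factorization p →
      (r₁ : ℤ) ∣ e * p ^ m - 1 → (r₂ : ℤ) ∣ e * p ^ m - 1 → False) :
    ∃ x y : G, orderOf x = r₁ ∧ orderOf y = r₂ ∧ Isol G p r₁ x ∧ Isol G p r₂ y ∧
      ∀ g : G, g ≠ 1 → ∃ u v : G, g = (u * x * u⁻¹) * (v * y * v⁻¹) := by
  obtain ⟨x, hx⟩ := Isol.of_iso h₁ hr₁
  obtain ⟨y, hy⟩ := Isol.of_iso h₂ hr₂
  exact ⟨x, y, hx.ord, hy.ord, hx, hy, two_of_isol hp hG hK hx hy ha⟩

/-- the same with `H530.OZ.IsoAt` -/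
theorem two_of_isoAt [Finite G] {p : ℕ} (hp : p.Prime) (hG : IsLieTypeChar p G) (hK : Kaw p G) {r₁ r₂ : ℕ}
    (h₁ : H530.OZ.IsoAt p r₁ G) (h₂ : H530.OZ.IsoAt p r₂ G) (hp₁ : r₁.Prime) (hp₂ : r₂.Prime) (hn₁ : r₁ ≠ p)
    (hn₂ : r₂ ≠ p) (hr₁ : r₁ ≠ 2) (hr₂ : r₂ ≠ 2)
    (ha : ∀ (m : ℕ) (e : ℤ), (e = 1 ∨ e = -1) → 0 < m → m < 2 * (Nat.card G).factorization p →
      (r₁ : ℤ) ∣ e * p ^ m - 1 → (r₂ : ℤ) ∣ e * p ^ m - 1 → False) :
    ∃ x y : G, orderOf x = r₁ ∧ orderOf y = r₂ ∧ Isol G p r₁ x ∧ Isol G p r₂ y ∧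
      ∀ g : G, g ≠ 1 → ∃ u v : G, g = (u * x * u⁻¹) * (v * y * v⁻¹) := by
  have key : ∀ r : ℕ, r.Prime → r ≠ p → r ≠ 2 → H530.OZ.IsoAt p r G → ∃ z : G, Isol G p r z := by
    rintro r hr hrp hr2 ⟨z, hz, h3, h4, h5, -⟩
    refine ⟨z, hr, hr2, hrp, hz, h3, fun y hy _ => h4 y hy, ?_⟩
    rintro v hv ⟨k, hk⟩
    rcases Nat.eq_zero_or_pos k with rfl | hk0
    · rw [pow_zero] at hk
      exact orderOf_eq_one_iff.1 hk
    · exact absurd (by rw [hk]; exact dvd_pow_self p hk0.ne') (h5 v hv)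
  obtain ⟨x, hx⟩ := key r₁ hp₁ hn₁ hr₁ h₁
  obtain ⟨y, hy⟩ := key r₂ hp₂ hn₂ hr₂ h₂
  exact ⟨x, y, hx.ord, hy.ord, hx, hy, two_of_isol hp hG hK hx hy ha⟩

end Cfsg.Agent.H727.TC
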