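import Cfsg.Agent.H727.TC.Kaw
import Cfsg.Agent.H210.TC.Row

/-!
# The cube condition of S2452 from Gow's theorem; `Row3` from two isolated primes (helper727)

* `cube_of_gow` : `x` with centralizer of order prime to `p`, `y ≠ 1` of order prime to `p`, `x^G y^G ⊇ G ∖ {1}`: then
  `(x^G)^3 = G` (remark of helper126 and helper700: `y` and `x⁻¹` are in `x^G x^G` by Gow).
* `row3_of_iso`, `row3_of_isoAt`, `row3_of_isol` : `H210.TC.Row3 G` (S4173, S2464, S2452 together) from two isolated primes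
  `r₁, r₂ ≥ 5`.
-/

set_option autoImplicit false

open Cfsg Subgroup

namespace Cfsg.Agent.H727.TC

open Cfsg.Agent.H730.OZ Cfsg.Agent.H732.VZ Cfsg.Agent.H65.Ore Cfsg.Agent.H210.TC

universe u

variable {G : Type u} [Group G]

/-- **The cube condition is free.** -/
theorem cube_of_gow [Finite G] {p : ℕ} (hp : p.Prime) (hG : IsLieTypeChar p G) {x y : G}
    (hx : ¬ p ∣ Nat.card (centralizer ({x} : Set G))) (hx1 : x ≠ 1) (hy : ¬ p ∣ orderOf y) (hy1 : y ≠ 1)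
    (h : ∀ g : G, g ≠ 1 → ∃ u v : G, g = (u * x * u⁻¹) * (v * y * v⁻¹)) (g : G) :
    ∃ u v w : G, g = (u * x * u⁻¹) * (v * x * v⁻¹) * (w * x * w⁻¹) := by
  have hxo : ¬ p ∣ orderOf x := by
    intro hd
    refine hx (hd.trans ?_)
    have h1 : x ∈ centralizer ({x} : Set G) := mem_centralizer_singleton_iff.2 rfl
    have h2 := orderOf_dvd_natCard (⟨x, h1⟩ : centralizer ({x} : Set G))
    rwa [Subgroup.orderOf_mk] at h2
  by_cases hg : g = 1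
  · obtain ⟨a, b, e⟩ := H330.Gow.gow hp hG hx hx (z := x⁻¹) (by simpa using hx1) (by rwa [orderOf_inv])
    exact ⟨a, b, 1, by rw [hg, e]; group⟩
  · obtain ⟨u, v, rfl⟩ := h g hg
    have ho : orderOf (v * y * v⁻¹) = orderOf y := by
      rw [← MulAut.conj_apply]
      exact MulEquiv.orderOf_eq (MulAut.conj v) y
    obtain ⟨a, b, e⟩ := H330.Gow.gow hp hG hx hx (z := v * y * v⁻¹) (by
      intro h1
      apply hy1
      have h2 : y = v⁻¹ * (v * y * v⁻¹) * v := by group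
      rw [h2, h1]
      group) (by rwa [ho])
    exact ⟨u, a, b, by rw [← e]; group⟩

/-- the order of an isolated element is not divisible by `p` -/
theorem Isol.not_dvd_orderOf {p r : ℕ} (hp : p.Prime) {z : G} (h : Isol G p r z) : ¬ p ∣ orderOf z := by
  rw [h.ord]
  intro hd
  exact h.ne ((Nat.prime_dvd_prime_iff_eq hp h.prime).1 hd).symm

theorem Isol.ne_one {p r : ℕ} {z : G} (h : Isol G p r z) : z ≠ 1 := by
  rintro rfl
  have h1 := h.ord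
  rw [orderOf_one] at h1
  exact h.prime.one_lt.ne h1

/-- **`Row3` from two isolated elements.** -/
theorem row3_of_isol [Finite G] {p : ℕ} (hp : p.Prime) (hG : IsLieTypeChar p G) (hK : Kaw p G) {r₁ r₂ : ℕ}
    {x y : G} (hx : Isol G p r₁ x) (hy : Isol G p r₂ y) (h6₁ : Nat.Coprime r₁ 6) (h6₂ : Nat.Coprime r₂ 6)
    (ha : ∀ (m : ℕ) (e : ℤ), (e = 1 ∨ e = -1) → 0 < m → m < 2 * (Nat.card G).factorization p →
      (r₁ : ℤ) ∣ e * p ^ m - 1 → (r₂ : ℤ) ∣ e * p ^ m - 1 → False) : Row3 G := by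
  have h := two_of_isol hp hG hK hx hy ha
  exact ⟨x, y, by rw [hx.ord]; exact hx.prime, by rwa [hx.ord], by rw [hy.ord]; exact hy.prime,
    by rwa [hy.ord], h, cube_of_gow hp hG (hx.card hp) hx.ne_one (hy.not_dvd_orderOf hp) hy.ne_one h⟩

/-- **`Row3` from two isolated primes** (`H732.VZ.Iso`). -/
theorem row3_of_iso [Finite G] {p : ℕ} (hp : p.Prime) (hG : IsLieTypeChar p G) (hK : Kaw p G) {r₁ r₂ : ℕ}
    (h₁ : Iso G p r₁) (h₂ : Iso G p r₂) (h6₁ : Nat.Coprime r₁ 6) (h6₂ : Nat.Coprime r₂ 6)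
    (ha : ∀ (m : ℕ) (e : ℤ), (e = 1 ∨ e = -1) → 0 < m → m < 2 * (Nat.card G).factorization p →
      (r₁ : ℤ) ∣ e * p ^ m - 1 → (r₂ : ℤ) ∣ e * p ^ m - 1 → False) : Row3 G := by
  have h2 : ∀ r : ℕ, Nat.Coprime r 6 → r ≠ 2 := by
    rintro r h rfl
    exact absurd h (by decide)
  obtain ⟨x, y, -, -, hx, hy, -⟩ := two_of_iso hp hG hK h₁ h₂ (h2 r₁ h6₁) (h2 r₂ h6₂) ha
  exact row3_of_isol hp hG hK hx hy h6₁ h6₂ ha

/-- **`Row3` from two isolated primes** (`H530.OZ.IsoAt`). -/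
theorem row3_of_isoAt [Finite G] {p : ℕ} (hp : p.Prime) (hG : IsLieTypeChar p G) (hK : Kaw p G) {r₁ r₂ : ℕ}
    (h₁ : H530.OZ.IsoAt p r₁ G) (h₂ : H530.OZ.IsoAt p r₂ G) (hp₁ : r₁.Prime) (hp₂ : r₂.Prime) (hn₁ : r₁ ≠ p)
    (hn₂ : r₂ ≠ p) (h6₁ : Nat.Coprime r₁ 6) (h6₂ : Nat.Coprime r₂ 6)
    (ha : ∀ (m : ℕ) (e : ℤ), (e = 1 ∨ e = -1) → 0 < m → m < 2 * (Nat.card G).factorization p →
      (r₁ : ℤ) ∣ e * p ^ m - 1 → (r₂ : ℤ) ∣ e * p ^ m - 1 → False) : Row3 G := by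
  have h2 : ∀ r : ℕ, Nat.Coprime r 6 → r ≠ 2 := by
    rintro r h rfl
    exact absurd h (by decide)
  obtain ⟨x, y, -, -, hx, hy, -⟩ := two_of_isoAt hp hG hK h₁ h₂ hp₁ hp₂ hn₁ hn₂ (h2 r₁ h6₁) (h2 r₂ h6₂) ha
  exact row3_of_isol hp hG hK hx hy h6₁ h6₂ ha

end Cfsg.Agent.H727.TC
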