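import Cfsg.Agent.H727.TC.Mid
import Cfsg.Agent.S0142
import Cfsg.Agent.S0145
import Cfsg.Agent.Characters.Values

/-!
# Classes of size prime to `p` (long root elements) in products of two classes (helper727)

`G` of Lie type in characteristic `p`; `t` with `p ∤ |t^G|`, `t ≠ 1` (e.g. long root elements; `t` is then `p`-singular).

* `mem_principal_of_lie` : every irreducible character which is not of `p`-defect zero lies in the principal `p`-block.
* `prd_of_coprime_class` : `x`, `y` with centralizers of order prime to `p`, `x` not conjugate to `y⁻¹`: `t ∈ x^G y^G`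
  (helper357, helper572: the count modulo `p`).
* `apply_ne_zero_of_coprime_class` : `χ(t) ≠ 0` for `χ` not of `p`-defect zero.
* `not_coprime_of_lie` : a nontrivial such `χ` has degree not prime to `|t^G|` (Burnside);
* `eq_of_pow` : the only nontrivial irreducible character of `p`-power degree has degree `|G|_p`.
-/

set_option autoImplicit false

open Cfsg Subgroup

namespace Cfsg.Agent.H727.TC

open Cfsg.Agent.Characters Cfsg.Agent.H730.OZ Cfsg.Agent.H732.VZ Cfsg.Agent.H65.Ore Cfsg.Agent.H330 Cfsg.Agent.H330.Gow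
open scoped ComplexConjugate

universe u

variable {G : Type u} [Group G]

/-- the Steinberg character: the only character of `p`-defect zero; the others are in the principal block -/
theorem exists_st [Finite G] {p : ℕ} (hp : p.Prime) (hG : IsLieTypeChar p G) :
    ∃ st : IrrCharacter G, charDegree (st : G → ℂ) = p ^ (Nat.card G).factorization p ∧
      (∀ g : G, ¬ p ∣ orderOf g →
        (st : G → ℂ) g = ((p ^ (Nat.card ↥(Subgroup.centralizer ({g} : Set G))).factorization p : ℕ) : ℂ) ∨
        (st : G → ℂ) g = -((p ^ (Nat.card ↥(Subgroup.centralizer ({g} : Set G))).factorization p : ℕ) : ℂ)) ∧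
      (∀ g : G, p ∣ orderOf g → (st : G → ℂ) g = 0) ∧
      (∀ ψ : IrrCharacter G, ¬ p ∣ Nat.card G / charDegree (ψ : G → ℂ) → ψ = st) ∧
      ∀ (M : Ideal AlgInt), IsPModular p M → ∀ ψ : IrrCharacter G, ψ ≠ st → ψ ∈ principalBlock M G := by
  classical
  have : Fact p.Prime := ⟨hp⟩
  have : IsSimpleGroup G := H400.LieSimple.isSimple_of_lie hG
  have hS := H716.SplitAb.hasSplitAb_of_lie hp hG
  have hcen := H400.LieLocal.center_eq_bot (hasSplit_of_ab hS)
  have hL := locChar_of_lie hG
  have hdvd := dvd_card (hasSplit_of_ab hS)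
  obtain ⟨χ, hχ, hχ1, hχv⟩ := GowSt.exists_st_of_hasSplit (hasSplit_of_ab hS)
  let st : IrrCharacter G := ⟨χ, hχ⟩
  have hdeg : charDegree (st : G → ℂ) = p ^ (Nat.card G).factorization p := Blocks.Basic.charDegree_of_eq hχ1
  have hst : ¬ p ∣ Nat.card G / charDegree (st : G → ℂ) := by
    rw [H143.ChevBlocks.not_dvd_iff st.2, hdeg, hp.factorization_pow]
    simp
  have huniq : ∀ ψ : IrrCharacter G, ¬ p ∣ Nat.card G / charDegree (ψ : G → ℂ) → ψ = st := fun ψ hψ =>
    GowOne.unique_of_hasSplitAb hS (perfect_of_split (hasSplit_of_ab hS)) ψ st hψ hst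
  refine ⟨st, hdeg, hχv, fun g hg => ?_, huniq, fun M hM ψ hψ => ?_⟩
  · exact zero_of_defect (a := (Nat.card G).factorization p) hp (Nat.ordProj_mul_ordCompl_eq_self _ _).symm
      (Nat.not_dvd_ordCompl hp Nat.card_pos.ne') st (by rw [hdeg]) hg
  · exact GowBlock.mem_principal hM hdvd hL hcen st hst huniq ψ hψ

/-- **All characters of positive `p`-defect lie in the principal `p`-block.** -/
theorem mem_principal_of_lie [Finite G] {p : ℕ} (hp : p.Prime) (hG : IsLieTypeChar p G) {M : Ideal AlgInt}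
    (hM : IsPModular p M) {ψ : IrrCharacter G} (hψ : p ∣ Nat.card G / charDegree (ψ : G → ℂ)) :
    ψ ∈ principalBlock M G := by
  have : Fact p.Prime := ⟨hp⟩
  obtain ⟨st, hdeg, -, -, -, h⟩ := exists_st hp hG
  refine h M hM ψ ?_
  rintro rfl
  refine absurd hψ ?_
  rw [H143.ChevBlocks.not_dvd_iff ψ.2, hdeg, hp.factorization_pow]
  simp

/-- the size of the class as a central character -/
theorem centralChar_one_fun (t : G) :
    centralChar (fun _ : G => (1 : ℂ)) t = ((centralizer ({t} : Set G)).index : ℂ) := by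
  unfold centralChar
  rw [mul_one, div_one]

/-- the central character at any class is the size of the class modulo `M` -/
theorem centralChar_sub_mem {M : Ideal AlgInt} {ψ : IrrCharacter G} (hψ : ψ ∈ principalBlock M G) (t : G) :
    MemLocalIdeal M (((centralizer ({t} : Set G)).index : ℂ) - centralChar (ψ : G → ℂ) t) := by
  have h1 : MemLocalIdeal M (centralChar (fun _ : G => (1 : ℂ)) t - centralChar (ψ : G → ℂ) t) := hψ t
  rwa [centralChar_one_fun] at h1

theorem index_inv (t : G) : (centralizer ({t⁻¹} : Set G)).index = (centralizer ({t} : Set G)).index := by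
  have h : centralizer ({t⁻¹} : Set G) = centralizer ({t} : Set G) := by
    ext g
    rw [mem_centralizer_singleton_iff, mem_centralizer_singleton_iff]
    exact Commute.inv_right_iff (a := g) (b := t)
  rw [h]

/-- an element whose centralizer has order prime to `p` is `p`-regular -/
theorem reg_of_cent [Finite G] {p : ℕ} {w : G} (hw : ¬ p ∣ Nat.card (centralizer ({w} : Set G))) :
    ¬ p ∣ orderOf w := by
  intro h
  apply hw
  refine h.trans ?_
  have h2 : w ∈ centralizer ({w} : Set G) := mem_centralizer_singleton_iff.2 rfl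
  rw [← orderOf_mk w h2]
  exact orderOf_dvd_natCard _

/-- **The classes of size prime to `p`** (long root elements): `x`, `y` with centralizers of order prime to `p` and `x`
not conjugate to `y⁻¹`. -/
theorem prd_of_coprime_class [Finite G] {p : ℕ} (hp : p.Prime) (hG : IsLieTypeChar p G) {x y t : G}
    (hx : ¬ p ∣ Nat.card (centralizer ({x} : Set G))) (hy : ¬ p ∣ Nat.card (centralizer ({y} : Set G)))
    (hxy : ¬ IsConj x y⁻¹) (ht : t ≠ 1) (htc : ¬ p ∣ (centralizer ({t} : Set G)).index) : Prd x y t := by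
  classical
  by_cases hpt : p ∣ orderOf t
  swap
  · obtain ⟨u, v, e⟩ := gow hp hG hx hy ht hpt
    exact ⟨u, v, e.symm⟩
  have : Fintype (IrrCharacter G) := @Fintype.ofFinite _ S0909.finite_irr
  have : Fintype G := Fintype.ofFinite G
  obtain ⟨M, hM⟩ := Blocks.ExistsModular.exists_isPModular hp
  have hMp := Blocks.Local.isPrime_of_isPModular hM
  obtain ⟨st, hdeg, hval, hsing, huniq, hblk⟩ := exists_st hp hG
  by_contra hcon
  have hcount : Nat.card {q : G × G // q.1 * x * q.1⁻¹ * (q.2 * y * q.2⁻¹) = t} = 0 := by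
    have : IsEmpty {q : G × G // q.1 * x * q.1⁻¹ * (q.2 * y * q.2⁻¹) = t} := ⟨fun q => hcon ⟨_, _, q.2.symm⟩⟩
    exact Nat.card_of_isEmpty
  have hsum := Characters.ClassMul.card_conj_mul_conj x y t
  rw [hcount, Nat.cast_zero] at hsum
  have hc0 : (Nat.card G : ℂ) ≠ 0 := by exact_mod_cast Nat.card_pos.ne'
  have hsum0 := (mul_eq_zero.1 hsum.symm).resolve_left hc0
  have hsum1 : ∑ ψ : IrrCharacter G, (ψ : G → ℂ) x * (ψ : G → ℂ) y * centralChar (ψ : G → ℂ) t⁻¹ = 0 := by
    have h1 : ∀ ψ : IrrCharacter G, (ψ : G → ℂ) x * (ψ : G → ℂ) y * centralChar (ψ : G → ℂ) t⁻¹ =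
        ((centralizer ({t⁻¹} : Set G)).index : ℂ) *
          ((ψ : G → ℂ) x * (ψ : G → ℂ) y * conj ((ψ : G → ℂ) t) / (ψ : G → ℂ) 1) := by
      intro ψ
      unfold centralChar
      rw [Blocks.CyclicUpper.conj_irr ψ t]
      ring
    rw [Finset.sum_congr rfl fun ψ _ => h1 ψ, ← Finset.mul_sum, hsum0, mul_zero]
  have hsum2 : ∑ ψ : IrrCharacter G, (ψ : G → ℂ) x * (ψ : G → ℂ) y = 0 := by
    have h1 := S0145.sum_irr_mul_conj x y⁻¹
    rw [if_neg hxy] at h1
    rw [← h1]
    refine Finset.sum_congr rfl fun ψ _ => ?_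
    rw [Blocks.CyclicUpper.conj_irr ψ, inv_inv]
  set m : ℕ := (centralizer ({t} : Set G)).index with hm
  have hst0 : centralChar (st : G → ℂ) t⁻¹ = 0 := by
    unfold centralChar
    rw [hsing t⁻¹ (by rwa [orderOf_inv]), mul_zero, zero_div]
  have hmem : ∀ ψ : IrrCharacter G, ψ ≠ st →
      MemLocalIdeal M ((ψ : G → ℂ) x * (ψ : G → ℂ) y * ((m : ℂ) - centralChar (ψ : G → ℂ) t⁻¹)) := by
    intro ψ hψ
    refine Blocks.Local.memLocalIdeal_mul_left ?_ ?_
    · exact Blocks.Local.memLocalRing_of_isIntegral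
        ((CharactersDeep.ModCongr.isIntegral_irr ψ.2 x).mul (CharactersDeep.ModCongr.isIntegral_irr ψ.2 y))
    · have h1 := centralChar_sub_mem (hblk M hM ψ hψ) t⁻¹
      rwa [index_inv] at h1
  have htot : ∑ ψ : IrrCharacter G,
      (ψ : G → ℂ) x * (ψ : G → ℂ) y * ((m : ℂ) - centralChar (ψ : G → ℂ) t⁻¹) = 0 := by
    have h1 : ∀ ψ : IrrCharacter G,
        (ψ : G → ℂ) x * (ψ : G → ℂ) y * ((m : ℂ) - centralChar (ψ : G → ℂ) t⁻¹) =
          (ψ : G → ℂ) x * (ψ : G → ℂ) y * (m : ℂ) -
            (ψ : G → ℂ) x * (ψ : G → ℂ) y * centralChar (ψ : G → ℂ) t⁻¹ := fun ψ => by ring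
    rw [Finset.sum_congr rfl fun ψ _ => h1 ψ, Finset.sum_sub_distrib, hsum1, ← Finset.sum_mul, hsum2]
    ring
  have hstm : MemLocalIdeal M ((st : G → ℂ) x * (st : G → ℂ) y * (m : ℂ)) := by
    have h1 : (st : G → ℂ) x * (st : G → ℂ) y * (m : ℂ) =
        - ∑ ψ ∈ Finset.univ.erase st,
          (ψ : G → ℂ) x * (ψ : G → ℂ) y * ((m : ℂ) - centralChar (ψ : G → ℂ) t⁻¹) := by
      rw [eq_neg_iff_add_eq_zero]
      rw [← Finset.add_sum_erase Finset.univ
        (fun ψ : IrrCharacter G => (ψ : G → ℂ) x * (ψ : G → ℂ) y * ((m : ℂ) - centralChar (ψ : G → ℂ) t⁻¹))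
        (Finset.mem_univ st), hst0, sub_zero] at htot
      exact htot
    rw [h1]
    refine Blocks.Local.memLocalIdeal_neg (Blocks.Local.memLocalIdeal_sum fun ψ hψ => ?_)
    exact hmem ψ (Finset.ne_of_mem_erase hψ)
  have hv : ∀ w : G, ¬ p ∣ Nat.card ↥(centralizer ({w} : Set G)) → (st : G → ℂ) w = 1 ∨ (st : G → ℂ) w = -1 := by
    intro w hw
    have h3 := hval w (reg_of_cent hw)
    rw [Nat.factorization_eq_zero_of_not_dvd hw, pow_zero, Nat.cast_one] at h3
    exact h3
  have hmm : MemLocalIdeal M (m : ℂ) := by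
    rcases hv x hx with h2 | h2 <;> rcases hv y hy with h3 | h3 <;>
      rw [h2, h3] at hstm <;> simpa [Blocks.Local.memLocalIdeal_neg_iff] using hstm
  exact htc ((Blocks.Local.memLocalIdeal_natCast_iff hM m).1 hmm)

/-- a character of positive `p`-defect does not vanish on a class of size prime to `p` -/
theorem apply_ne_zero_of_coprime_class [Finite G] {p : ℕ} (hp : p.Prime) (hG : IsLieTypeChar p G) {t : G}
    (htc : ¬ p ∣ (centralizer ({t} : Set G)).index) {ψ : IrrCharacter G}
    (hψ : p ∣ Nat.card G / charDegree (ψ : G → ℂ)) : (ψ : G → ℂ) t ≠ 0 := by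
  intro h0
  obtain ⟨M, hM⟩ := Blocks.ExistsModular.exists_isPModular hp
  have hMp := Blocks.Local.isPrime_of_isPModular hM
  have h1 := centralChar_sub_mem (mem_principal_of_lie hp hG hM hψ) t
  have h2 : centralChar (ψ : G → ℂ) t = 0 := by
    unfold centralChar
    rw [h0, mul_zero, zero_div]
  rw [h2, sub_zero] at h1
  exact htc ((Blocks.Local.memLocalIdeal_natCast_iff hM _).1 h1)

/-- **Burnside**: in a nonabelian simple group, the degree of a nontrivial irreducible character which does not vanish at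
`t ≠ 1` is not prime to the size of the class of `t`. -/
theorem not_coprime_of_ne_zero [Finite G] [IsSimpleGroup G] (hc : center G = ⊥) {t : G} (ht : t ≠ 1)
    {ψ : IrrCharacter G} (h1 : ψ ≠ one1 G) (h0 : (ψ : G → ℂ) t ≠ 0) :
    ¬ Nat.Coprime (charDegree (ψ : G → ℂ)) (centralizer ({t} : Set G)).index := by
  intro hcop
  have hdeg := H686.CharKit.charDegree_irr ψ
  obtain ⟨n, ρ, hρ, hχ⟩ := ψ.2
  have h4 : charDegree (ψ : G → ℂ) = Module.finrank ℂ (Fin n → ℂ) := by
    rw [← hχ, Representation.char_one] at hdeg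
    rw [← hχ]
    exact_mod_cast hdeg
  rw [h4] at hcop
  rcases S0142.result ρ t hcop with h2 | h2
  · exact h0 (by rw [← hχ]; exact h2)
  obtain ⟨w, hw⟩ := (Values.norm_character_eq_iff ρ t).1 h2
  have hcomm : ∀ y : G, ρ (y * t * y⁻¹ * t⁻¹) = 1 := by
    intro y
    have h2 : ρ (y * t) = ρ (t * y) := by
      rw [map_mul, map_mul, hw]
      ext v
      simp
    have h3 : y * t * y⁻¹ * t⁻¹ = (y * t) * (t * y)⁻¹ := by group
    rw [h3, map_mul, h2, ← map_mul, mul_inv_cancel, map_one]
  rcases IsSimpleGroup.eq_bot_or_eq_top_of_normal (MonoidHom.ker ρ.asGroupHom) inferInstance with hk | hk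
  · have hcen : t ∈ Subgroup.center G := by
      rw [Subgroup.mem_center_iff]
      intro y
      have h2 : y * t * y⁻¹ * t⁻¹ ∈ MonoidHom.ker ρ.asGroupHom := by
        rw [MonoidHom.mem_ker]
        exact Units.ext (hcomm y)
      rw [hk, Subgroup.mem_bot] at h2
      have h3 : y * t = (y * t * y⁻¹ * t⁻¹) * (t * y) := by group
      rw [h3, h2, one_mul]
    rw [hc, Subgroup.mem_bot] at hcen
    exact ht hcen
  · apply h1
    refine eq_one1_of_const ψ fun g => ?_
    have hg : ρ g = ρ 1 := by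
      have h2 : g ∈ MonoidHom.ker ρ.asGroupHom := hk ▸ Subgroup.mem_top g
      rw [MonoidHom.mem_ker] at h2
      rw [map_one]
      exact congrArg Units.val h2
    rw [← hχ]
    unfold Representation.character
    rw [hg]

/-- a nontrivial character of positive `p`-defect has degree not prime to `|t^G|` -/
theorem not_coprime_of_lie [Finite G] {p : ℕ} (hp : p.Prime) (hG : IsLieTypeChar p G) {t : G} (ht : t ≠ 1)
    (htc : ¬ p ∣ (centralizer ({t} : Set G)).index) {ψ : IrrCharacter G} (h1 : ψ ≠ one1 G)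
    (hψ : p ∣ Nat.card G / charDegree (ψ : G → ℂ)) :
    ¬ Nat.Coprime (charDegree (ψ : G → ℂ)) (centralizer ({t} : Set G)).index := by
  have : Fact p.Prime := ⟨hp⟩
  have : IsSimpleGroup G := H400.LieSimple.isSimple_of_lie hG
  have hcen := H400.LieLocal.center_eq_bot (hasSplit_of_ab (H716.SplitAb.hasSplitAb_of_lie hp hG))
  exact not_coprime_of_ne_zero hcen ht h1 (apply_ne_zero_of_coprime_class hp hG htc hψ)

/-- a nontrivial element whose class has size prime to `p` -/
theorem exists_coprime_class [Finite G] {p : ℕ} (hp : p.Prime) (hd : p ∣ Nat.card G) :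
    ∃ t : G, t ≠ 1 ∧ (∃ k : ℕ, orderOf t = p ^ k) ∧ ¬ p ∣ (centralizer ({t} : Set G)).index := by
  have : Fact p.Prime := ⟨hp⟩
  let P : Sylow p G := default
  have hne : Nontrivial P := by
    rw [← Finite.one_lt_card_iff_nontrivial]
    have h1 := P.card_eq_multiplicity
    have h2 : Nat.card P = p ^ (Nat.card G).factorization p := h1
    rw [h2]
    exact Nat.one_lt_pow (hp.factorization_pos_of_dvd Nat.card_pos.ne' hd).ne' hp.one_lt
  have hcn : Nontrivial (Subgroup.center P) := P.isPGroup'.center_nontrivial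
  obtain ⟨z, hz⟩ := exists_ne (1 : Subgroup.center P)
  refine ⟨(z : P), ?_, ?_, ?_⟩
  · intro h
    apply hz
    apply Subtype.ext
    apply Subtype.ext
    exact h
  · obtain ⟨k, hk⟩ := (IsPGroup.iff_orderOf.1 P.isPGroup') (z : P)
    exact ⟨k, by rw [← hk, Subgroup.orderOf_coe]⟩
  · intro h
    have h1 : (P : Subgroup G) ≤ centralizer ({((z : P) : G)} : Set G) := by
      intro g hg
      rw [mem_centralizer_singleton_iff]
      have h2 := Subgroup.mem_center_iff.1 z.2 ⟨g, hg⟩
      exact congrArg Subtype.val h2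
    have h2 : (centralizer ({((z : P) : G)} : Set G)).index ∣ (P : Subgroup G).index :=
      Subgroup.index_dvd_of_le h1
    exact P.not_dvd_index (h.trans h2)

/-- **The characters of degree a power of `p`** are the trivial one and the Steinberg character: a nontrivial irreducible
character of degree `p ^ a` has degree `|G|_p`. -/
theorem eq_of_pow [Finite G] {p : ℕ} (hp : p.Prime) (hG : IsLieTypeChar p G) {ψ : IrrCharacter G} (h1 : ψ ≠ one1 G)
    {a : ℕ} (ha : charDegree (ψ : G → ℂ) = p ^ a) : a = (Nat.card G).factorization p := by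
  have : Fact p.Prime := ⟨hp⟩
  have : IsSimpleGroup G := H400.LieSimple.isSimple_of_lie hG
  have hS := hasSplit_of_ab (H716.SplitAb.hasSplitAb_of_lie hp hG)
  have hd := dvd_card hS
  obtain ⟨t, ht, -, htc⟩ := exists_coprime_class (G := G) hp hd
  by_contra hne
  have hψ : p ∣ Nat.card G / charDegree (ψ : G → ℂ) := by
    by_contra hcon
    rw [H143.ChevBlocks.not_dvd_iff ψ.2, ha, hp.factorization_pow, Finsupp.single_eq_same] at hcon
    refine hne (le_antisymm ?_ hcon)
    have h2 : charDegree (ψ : G → ℂ) ∣ Nat.card G := Blocks.CyclicUpper.charDegree_dvd ψ.2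
    rw [ha] at h2
    exact (hp.pow_dvd_iff_le_factorization Nat.card_pos.ne').1 h2
  refine not_coprime_of_lie hp hG ht htc h1 hψ ?_
  rw [ha]
  exact Nat.Coprime.pow_left a ((Nat.Prime.coprime_iff_not_dvd hp).2 htc)

end Cfsg.Agent.H727.TC
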