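import Cfsg.Agent.H727.TC.Mid
import Cfsg.Agent.H727.TC.Long

/-!
# Middle characters without Kawanaka's numbers (helper727)

`G` of Lie type in characteristic `p`.  `IsMidB p x y χ` : `χ` is not trivial, not of `p`-defect zero, and
`χ(x) χ(y) ≠ 0`.

* `two_of_midB` : `x`, `y` with centralizers of order prime to `p`, `x` not conjugate to `y⁻¹`, at most `n` middle
  characters with `|χ(x) χ(y)| ≤ 1`, all of degree at least `D`, and `n |C(g)| < D² + n` for the `p`-singular `g` with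
  `p ∣ |g^G|`: then every `g ≠ 1` lies in `x^G y^G`.
-/

set_option autoImplicit false

open Cfsg Subgroup

namespace Cfsg.Agent.H727.TC

open Cfsg.Agent.Characters Cfsg.Agent.H730.OZ Cfsg.Agent.H732.VZ Cfsg.Agent.H65.Ore Cfsg.Agent.H330 Cfsg.Agent.H330.Gow
open scoped ComplexConjugate

universe u

variable {G : Type u} [Group G]

/-- middle characters of the pair `x, y` -/
def IsMidB (p : ℕ) (x y : G) (χ : IrrCharacter G) : Prop :=
  χ ≠ one1 G ∧ p ∣ Nat.card G / charDegree (χ : G → ℂ) ∧ (χ : G → ℂ) x ≠ 0 ∧ (χ : G → ℂ) y ≠ 0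

/-- a nontrivial character which is not middle vanishes at `x`, at `y` or at every `p`-singular element -/
theorem zero_of_not_midB [Finite G] {p : ℕ} (hp : p.Prime) (hG : IsLieTypeChar p G) {x y : G}
    {χ : IrrCharacter G} (hχ : χ ≠ one1 G) (h : ¬ IsMidB p x y χ) {g : G} (hg : p ∣ orderOf g) :
    (χ : G → ℂ) x = 0 ∨ (χ : G → ℂ) y = 0 ∨ (χ : G → ℂ) g = 0 := by
  by_cases hx : (χ : G → ℂ) x = 0
  · exact Or.inl hx
  by_cases hy : (χ : G → ℂ) y = 0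
  · exact Or.inr (Or.inl hy)
  right; right
  obtain ⟨st, -, -, hsing, huniq, -⟩ := exists_st hp hG
  have h1 : ¬ p ∣ Nat.card G / charDegree (χ : G → ℂ) := fun h2 => h ⟨hχ, h2, hx, hy⟩
  rw [huniq χ h1]
  exact hsing g hg

section

variable [Finite G] [Fintype (IrrCharacter G)]

/-- **The class sum at a `p`-singular element.** -/
theorem sum_eq_midB {p : ℕ} (hp : p.Prime) (hG : IsLieTypeChar p G) {x y g : G} (hg : p ∣ orderOf g)
    [DecidablePred (IsMidB p x y)] :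
    ∑ χ : IrrCharacter G, (χ : G → ℂ) x * (χ : G → ℂ) y * conj ((χ : G → ℂ) g) / (χ : G → ℂ) 1 =
      1 + ∑ χ ∈ Finset.univ.filter (IsMidB p x y),
        (χ : G → ℂ) x * (χ : G → ℂ) y * conj ((χ : G → ℂ) g) / (χ : G → ℂ) 1 := by
  classical
  rw [← Finset.add_sum_erase Finset.univ _ (Finset.mem_univ (one1 G))]
  congr 1
  · simp [one1_apply]
  · symm
    refine Finset.sum_subset (fun χ hχ => ?_) fun χ hχ hn => ?_
    · rw [Finset.mem_filter] at hχ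
      rw [Finset.mem_erase]
      exact ⟨hχ.2.1, Finset.mem_univ _⟩
    · have h1 : ¬ IsMidB p x y χ := fun h => hn (Finset.mem_filter.2 ⟨Finset.mem_univ _, h⟩)
      rcases zero_of_not_midB hp hG (Finset.ne_of_mem_erase hχ) h1 hg with h | h | h <;> rw [h] <;> simp

/-- real part form -/
theorem prd_of_midB_re {p : ℕ} (hp : p.Prime) (hG : IsLieTypeChar p G) {x y g : G} (hg : p ∣ orderOf g)
    [DecidablePred (IsMidB p x y)]
    (h : -1 < (∑ χ ∈ Finset.univ.filter (IsMidB p x y),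
      (χ : G → ℂ) x * (χ : G → ℂ) y * conj ((χ : G → ℂ) g) / (χ : G → ℂ) 1).re) : Prd x y g := by
  apply prd_of_ne_zero
  rw [sum_eq_midB hp hG hg]
  intro h0
  have h1 := congrArg Complex.re h0
  rw [Complex.add_re, Complex.one_re, Complex.zero_re] at h1
  linarith

/-- **First form.** -/
theorem prd_of_midB_lt {p : ℕ} (hp : p.Prime) (hG : IsLieTypeChar p G) {x y g : G} (hg : p ∣ orderOf g)
    [DecidablePred (IsMidB p x y)]
    (h : ∑ χ ∈ Finset.univ.filter (IsMidB p x y),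
      ‖(χ : G → ℂ) x‖ * ‖(χ : G → ℂ) y‖ * ‖(χ : G → ℂ) g‖ / ‖(χ : G → ℂ) 1‖ < 1) : Prd x y g := by
  apply prd_of_midB_re hp hG hg
  have h2 := norm_sum_le (Finset.univ.filter (IsMidB p x y))
    (fun χ : IrrCharacter G => (χ : G → ℂ) x * (χ : G → ℂ) y * conj ((χ : G → ℂ) g) / (χ : G → ℂ) 1)
  have h3 : ∀ χ : IrrCharacter G, ‖(χ : G → ℂ) x * (χ : G → ℂ) y * conj ((χ : G → ℂ) g) / (χ : G → ℂ) 1‖ =
      ‖(χ : G → ℂ) x‖ * ‖(χ : G → ℂ) y‖ * ‖(χ : G → ℂ) g‖ / ‖(χ : G → ℂ) 1‖ := by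
    intro χ
    rw [norm_div, norm_mul, norm_mul, Complex.norm_conj]
  simp only [h3] at h2
  have h4 := Complex.abs_re_le_norm (∑ χ ∈ Finset.univ.filter (IsMidB p x y),
    (χ : G → ℂ) x * (χ : G → ℂ) y * conj ((χ : G → ℂ) g) / (χ : G → ℂ) 1)
  have h5 := neg_abs_le (∑ χ ∈ Finset.univ.filter (IsMidB p x y),
    (χ : G → ℂ) x * (χ : G → ℂ) y * conj ((χ : G → ℂ) g) / (χ : G → ℂ) 1).re
  linarith

/-- the sum of the squares over the middle characters -/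
theorem sum_midB_sq_le {p : ℕ} {x y g : G} [DecidablePred (IsMidB p x y)] :
    ∑ χ ∈ Finset.univ.filter (IsMidB p x y), ‖(χ : G → ℂ) g‖ ^ 2 ≤
      (Nat.card (Subgroup.centralizer ({g} : Set G)) : ℝ) - 1 := by
  classical
  rw [← sum_erase_sq]
  refine Finset.sum_le_sum_of_subset_of_nonneg (fun χ hχ => ?_) fun _ _ _ => by positivity
  rw [Finset.mem_filter] at hχ
  rw [Finset.mem_erase]
  exact ⟨hχ.2.1, Finset.mem_univ _⟩

/-- **The sieve.** -/
theorem prd_of_midB_sieve {p : ℕ} (hp : p.Prime) (hG : IsLieTypeChar p G) {x y g : G} (hg : p ∣ orderOf g)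
    [DecidablePred (IsMidB p x y)] {D : ℝ} (hD0 : 0 < D)
    (hD : ∀ χ : IrrCharacter G, IsMidB p x y χ → D ≤ ‖(χ : G → ℂ) 1‖)
    (h : (∑ χ ∈ Finset.univ.filter (IsMidB p x y), (‖(χ : G → ℂ) x‖ * ‖(χ : G → ℂ) y‖) ^ 2) *
      ((Nat.card (Subgroup.centralizer ({g} : Set G)) : ℝ) - 1) < D ^ 2) : Prd x y g := by
  classical
  apply prd_of_midB_lt hp hG hg
  have h1 := Finset.sum_mul_sq_le_sq_mul_sq (Finset.univ.filter (IsMidB p x y))
    (fun χ : IrrCharacter G => ‖(χ : G → ℂ) x‖ * ‖(χ : G → ℂ) y‖) (fun χ : IrrCharacter G => ‖(χ : G → ℂ) g‖)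
  have h2 : (∑ χ ∈ Finset.univ.filter (IsMidB p x y), ‖(χ : G → ℂ) x‖ * ‖(χ : G → ℂ) y‖ * ‖(χ : G → ℂ) g‖) ^ 2 <
      D ^ 2 := by
    refine h1.trans_lt (lt_of_le_of_lt ?_ h)
    exact mul_le_mul_of_nonneg_left sum_midB_sq_le (Finset.sum_nonneg fun _ _ => by positivity)
  have h3 : ∑ χ ∈ Finset.univ.filter (IsMidB p x y), ‖(χ : G → ℂ) x‖ * ‖(χ : G → ℂ) y‖ * ‖(χ : G → ℂ) g‖ < D :=
    lt_of_pow_lt_pow_left₀ 2 hD0.le h2
  calc ∑ χ ∈ Finset.univ.filter (IsMidB p x y),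
        ‖(χ : G → ℂ) x‖ * ‖(χ : G → ℂ) y‖ * ‖(χ : G → ℂ) g‖ / ‖(χ : G → ℂ) 1‖
      ≤ ∑ χ ∈ Finset.univ.filter (IsMidB p x y), ‖(χ : G → ℂ) x‖ * ‖(χ : G → ℂ) y‖ * ‖(χ : G → ℂ) g‖ / D := by
        refine Finset.sum_le_sum fun χ hχ => ?_
        have h4 := hD χ (Finset.mem_filter.1 hχ).2
        gcongr
    _ = (∑ χ ∈ Finset.univ.filter (IsMidB p x y), ‖(χ : G → ℂ) x‖ * ‖(χ : G → ℂ) y‖ * ‖(χ : G → ℂ) g‖) / D := by
        rw [Finset.sum_div]
    _ < 1 := by rw [div_lt_one hD0]; exact h3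

/-- ratio form -/
theorem prd_of_midB_ratio {p : ℕ} (hp : p.Prime) (hG : IsLieTypeChar p G) {x y g : G} (hg : p ∣ orderOf g)
    [DecidablePred (IsMidB p x y)] {ρ W : ℝ} (hρ0 : 0 ≤ ρ)
    (hW : ∑ χ ∈ Finset.univ.filter (IsMidB p x y), ‖(χ : G → ℂ) x‖ * ‖(χ : G → ℂ) y‖ ≤ W)
    (hρ : ∀ χ : IrrCharacter G, IsMidB p x y χ → ‖(χ : G → ℂ) g‖ ≤ ρ * ‖(χ : G → ℂ) 1‖)
    (h : W * ρ < 1) : Prd x y g := by
  refine prd_of_midB_lt hp hG hg (lt_of_le_of_lt ?_ h)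
  calc ∑ χ ∈ Finset.univ.filter (IsMidB p x y),
        ‖(χ : G → ℂ) x‖ * ‖(χ : G → ℂ) y‖ * ‖(χ : G → ℂ) g‖ / ‖(χ : G → ℂ) 1‖
      ≤ ∑ χ ∈ Finset.univ.filter (IsMidB p x y), ‖(χ : G → ℂ) x‖ * ‖(χ : G → ℂ) y‖ * ρ := by
        refine Finset.sum_le_sum fun χ hχ => ?_
        have h2 := (Finset.mem_filter.1 hχ).2
        have h3 : (0 : ℝ) < ‖(χ : G → ℂ) 1‖ := by
          rw [norm_pos_iff]
          exact Core.isIrr_apply_one_ne_zero χ.2
        rw [mul_div_assoc]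
        refine mul_le_mul_of_nonneg_left ?_ (by positivity)
        rw [div_le_iff₀ h3]
        exact hρ χ h2
    _ = (∑ χ ∈ Finset.univ.filter (IsMidB p x y), ‖(χ : G → ℂ) x‖ * ‖(χ : G → ℂ) y‖) * ρ := by
        rw [Finset.sum_mul]
    _ ≤ W * ρ := mul_le_mul_of_nonneg_right hW hρ0

end

/-- at most `n` middle characters with `|χ(x) χ(y)| ≤ 1`, all of degree at least `D` -/
theorem prd_of_midB_card [Finite G] {p : ℕ} (hp : p.Prime) (hG : IsLieTypeChar p G) {x y g : G} (hg : p ∣ orderOf g)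
    {D n : ℕ} (hn : {χ : IrrCharacter G | IsMidB p x y χ}.ncard ≤ n)
    (h1 : ∀ χ : IrrCharacter G, IsMidB p x y χ → ‖(χ : G → ℂ) x‖ * ‖(χ : G → ℂ) y‖ ≤ 1)
    (hD : ∀ χ : IrrCharacter G, IsMidB p x y χ → D ≤ charDegree (χ : G → ℂ))
    (h : n * Nat.card (centralizer ({g} : Set G)) < D ^ 2 + n) : Prd x y g := by
  classical
  have : Fintype (IrrCharacter G) := @Fintype.ofFinite _ S0909.finite_irr
  have hcard : (Finset.univ.filter (IsMidB p x y)).card ≤ n := by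
    refine le_trans (le_of_eq ?_) hn
    rw [Set.ncard_eq_toFinset_card']
    congr 1
    ext χ
    simp
  have hD' : ∀ χ : IrrCharacter G, IsMidB p x y χ → (D : ℝ) ≤ ‖(χ : G → ℂ) 1‖ := by
    intro χ hχ
    rw [← H686.CharKit.charDegree_irr χ, Complex.norm_natCast]
    exact_mod_cast hD χ hχ
  rcases Nat.eq_zero_or_pos D with rfl | hDpos
  · -- no middle character
    have h2 : n = 0 ∨ Nat.card (centralizer ({g} : Set G)) = 0 := by
      by_contra hcon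
      push Not at hcon
      have h3 : 1 ≤ Nat.card (centralizer ({g} : Set G)) := Nat.one_le_iff_ne_zero.2 hcon.2
      have h4 : n * 1 ≤ n * Nat.card (centralizer ({g} : Set G)) := Nat.mul_le_mul_left n h3
      omega
    rcases h2 with rfl | h2
    · have h3 : Finset.univ.filter (IsMidB p x y) = ∅ := Finset.card_eq_zero.1 (Nat.le_zero.1 hcard)
      apply prd_of_midB_lt hp hG hg
      rw [h3, Finset.sum_empty]
      exact one_pos
    · exact absurd h2 Nat.card_pos.ne'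
  · refine prd_of_midB_sieve hp hG hg (D := (D : ℝ)) (by exact_mod_cast hDpos) hD' ?_
    have hc : (0 : ℝ) ≤ (Nat.card (Subgroup.centralizer ({g} : Set G)) : ℝ) - 1 := by
      have : 1 ≤ Nat.card (Subgroup.centralizer ({g} : Set G)) := Nat.card_pos
      have : (1 : ℝ) ≤ (Nat.card (Subgroup.centralizer ({g} : Set G)) : ℝ) := by exact_mod_cast this
      linarith
    have h2 : ∑ χ ∈ Finset.univ.filter (IsMidB p x y), (‖(χ : G → ℂ) x‖ * ‖(χ : G → ℂ) y‖) ^ 2 ≤ (n : ℝ) :=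
      calc ∑ χ ∈ Finset.univ.filter (IsMidB p x y), (‖(χ : G → ℂ) x‖ * ‖(χ : G → ℂ) y‖) ^ 2
          ≤ ∑ _χ ∈ Finset.univ.filter (IsMidB p x y), (1 : ℝ) := by
            refine Finset.sum_le_sum fun χ hχ => ?_
            exact pow_le_one₀ (by positivity) (h1 χ (Finset.mem_filter.1 hχ).2)
        _ = ((Finset.univ.filter (IsMidB p x y)).card : ℝ) := by simp
        _ ≤ n := by exact_mod_cast hcard
    refine lt_of_le_of_lt (mul_le_mul_of_nonneg_right h2 hc) ?_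
    have h3 : ((n * Nat.card (centralizer ({g} : Set G)) : ℕ) : ℝ) < ((D ^ 2 + n : ℕ) : ℝ) := by exact_mod_cast h
    push_cast at h3
    linarith

/-- **Two classes from few middle characters.** -/
theorem two_of_midB [Finite G] {p : ℕ} (hp : p.Prime) (hG : IsLieTypeChar p G) {x y : G}
    (hx : ¬ p ∣ Nat.card (centralizer ({x} : Set G))) (hy : ¬ p ∣ Nat.card (centralizer ({y} : Set G)))
    (hxy : ¬ IsConj x y⁻¹) {D n : ℕ} (hn : {χ : IrrCharacter G | IsMidB p x y χ}.ncard ≤ n)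
    (h1 : ∀ χ : IrrCharacter G, IsMidB p x y χ → ‖(χ : G → ℂ) x‖ * ‖(χ : G → ℂ) y‖ ≤ 1)
    (hD : ∀ χ : IrrCharacter G, IsMidB p x y χ → D ≤ charDegree (χ : G → ℂ))
    (h : ∀ g : G, p ∣ orderOf g → p ∣ (centralizer ({g} : Set G)).index →
      n * Nat.card (centralizer ({g} : Set G)) < D ^ 2 + n) (g : G) (hg : g ≠ 1) :
    ∃ u v : G, g = (u * x * u⁻¹) * (v * y * v⁻¹) := by
  by_cases hi : p ∣ (centralizer ({g} : Set G)).index
  · by_cases ho : p ∣ orderOf g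
    · exact prd_of_midB_card hp hG ho hn h1 hD (h g ho hi)
    · obtain ⟨u, v, e⟩ := gow hp hG hx hy hg ho
      exact ⟨u, v, e.symm⟩
  · exact prd_of_coprime_class hp hG hx hy hxy hg hi

end Cfsg.Agent.H727.TC
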