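import Cfsg.Agent.H727.TC.Kaw

/-!
# The class sum on `p`-singular elements: middle characters (helper727)

`G` simple with the Kawanaka property, `a = v_p(|G|)`.  For `χ` irreducible let `± p ^ m χ(1)` be its sum over the
`p`-elements.  `IsMid p x y χ` : `χ(x) χ(y) ≠ 0` and `0 < m < 2 a` (for some, hence every, such `m`).

* `sum_eq_mid` : for `p`-singular `g` the class sum is `1 + ∑_{mid} χ(x) χ(y) conj χ(g) / χ(1)`.
* `prd_of_mid_lt` : `∑_{mid} |χ(x)| |χ(y)| |χ(g)| / χ(1) < 1` gives `g ∈ x^G y^G`.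
* `prd_of_mid_re` : the same with `-1 < Re ∑`.
* `prd_of_mid_sieve` : `D ≤ χ(1)` for the middle characters, `(∑_{mid} (|χ(x)| |χ(y)|)²) (|C(g)| - 1) < D²`.
* `prd_of_mid_card` : at most `n` middle characters, `|χ(x) χ(y)| ≤ 1` and `n (|C(g)| - 1) < D²`.
* `prd_of_mid_ratio` : `|χ(g)| ≤ ρ χ(1)` on the middle characters, `n ρ < 1`.
* `prd_of_mid_fam` : families with constant ratio.
-/

set_option autoImplicit false

open Cfsg Subgroup

namespace Cfsg.Agent.H727.TC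

open Cfsg.Agent.Characters Cfsg.Agent.H730.OZ Cfsg.Agent.H732.VZ Cfsg.Agent.H65.Ore
open scoped ComplexConjugate

universe u

variable {G : Type u} [Group G]

/-- middle characters of the pair `x, y` -/
def IsMid (p : ℕ) (x y : G) (χ : IrrCharacter G) : Prop :=
  (χ : G → ℂ) x ≠ 0 ∧ (χ : G → ℂ) y ≠ 0 ∧ ∃ (m : ℕ) (e : ℤ), (e = 1 ∨ e = -1) ∧
    ∑ᶠ u ∈ pSet p G, (χ : G → ℂ) u = (e : ℂ) * (p : ℂ) ^ m * (χ : G → ℂ) 1 ∧ 0 < m ∧
    m < 2 * (Nat.card G).factorization p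

/-- a nontrivial character which is not middle vanishes at `x`, at `y` or at every `p`-singular element -/
theorem zero_of_not_mid [Finite G] [IsSimpleGroup G] {p : ℕ} (hp : p.Prime) (hK : Kaw p G) {x y : G}
    {χ : IrrCharacter G} (hχ : χ ≠ one1 G) (h : ¬ IsMid p x y χ) {g : G} (hg : p ∣ orderOf g) :
    (χ : G → ℂ) x = 0 ∨ (χ : G → ℂ) y = 0 ∨ (χ : G → ℂ) g = 0 := by
  by_cases hx : (χ : G → ℂ) x = 0
  · exact Or.inl hx
  by_cases hy : (χ : G → ℂ) y = 0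
  · exact Or.inr (Or.inl hy)
  right; right
  have hpG : p ∣ Nat.card G := hg.trans (orderOf_dvd_natCard g)
  obtain ⟨m, e, he, hs⟩ := hK.sum χ χ.2
  obtain ⟨hmle, -⟩ := hK.top hp χ.2 he hs
  rcases Nat.eq_zero_or_pos m with rfl | hm0
  · exact zero_of_kaw hp χ he hs hg
  · exfalso
    rcases hmle.lt_or_eq with hlt | heq
    · exact h ⟨hx, hy, m, e, he, hs, hm0, hlt⟩
    · exact hχ (eq_one1_of_const χ (eq_one_of_top hp hpG hK χ he hs heq))

variable [Finite G] [IsSimpleGroup G] [Fintype (IrrCharacter G)]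

omit [IsSimpleGroup G] [Fintype (IrrCharacter G)] in
/-- the trivial character is not middle -/
theorem not_mid_one {p : ℕ} (hp : p.Prime) (hK : Kaw p G) (x y : G) : ¬ IsMid p x y (one1 G) := by
  classical
  have := Fintype.ofFinite G
  rintro ⟨-, -, m, e, he, hs, hm0, hm⟩
  have h1 : ∑ᶠ u ∈ pSet p G, ((one1 G : IrrCharacter G) : G → ℂ) u = ((pSet p G).ncard : ℂ) := by
    rw [finsum_pSet, Finset.sum_congr rfl fun u _ => one1_apply u, Finset.sum_const, nsmul_eq_mul, mul_one,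
      Set.ncard_eq_toFinset_card']
    congr 2
    ext u
    simp
  rw [h1, hK.card, one1_apply, mul_one] at hs
  have hp1 := hp.one_lt
  have h2 : ((p : ℤ) ^ (2 * (Nat.card G).factorization p)) = e * (p : ℤ) ^ m := by exact_mod_cast hs
  have h3 : (p : ℤ) ^ m < (p : ℤ) ^ (2 * (Nat.card G).factorization p) := by
    exact_mod_cast Nat.pow_lt_pow_right hp1 hm
  have h4 : (0 : ℤ) < (p : ℤ) ^ m := by positivity
  rcases he with rfl | rfl <;> linarith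

/-- **The class sum at a `p`-singular element.** -/
theorem sum_eq_mid {p : ℕ} (hp : p.Prime) (hK : Kaw p G) {x y g : G} (hg : p ∣ orderOf g)
    [DecidablePred (IsMid p x y)] :
    ∑ χ : IrrCharacter G, (χ : G → ℂ) x * (χ : G → ℂ) y * conj ((χ : G → ℂ) g) / (χ : G → ℂ) 1 =
      1 + ∑ χ ∈ Finset.univ.filter (IsMid p x y),
        (χ : G → ℂ) x * (χ : G → ℂ) y * conj ((χ : G → ℂ) g) / (χ : G → ℂ) 1 := by
  classical
  rw [← Finset.add_sum_erase Finset.univ _ (Finset.mem_univ (one1 G))]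
  congr 1
  · simp [one1_apply]
  · symm
    refine Finset.sum_subset (fun χ hχ => ?_) fun χ hχ hn => ?_
    · rw [Finset.mem_filter] at hχ
      rw [Finset.mem_erase]
      exact ⟨fun h => not_mid_one hp hK x y (h ▸ hχ.2), Finset.mem_univ _⟩
    · have h1 : ¬ IsMid p x y χ := fun h => hn (Finset.mem_filter.2 ⟨Finset.mem_univ _, h⟩)
      rcases zero_of_not_mid hp hK (Finset.ne_of_mem_erase hχ) h1 hg with h | h | h <;> rw [h] <;> simp

/-- real part form -/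
theorem prd_of_mid_re {p : ℕ} (hp : p.Prime) (hK : Kaw p G) {x y g : G} (hg : p ∣ orderOf g)
    [DecidablePred (IsMid p x y)]
    (h : -1 < (∑ χ ∈ Finset.univ.filter (IsMid p x y),
      (χ : G → ℂ) x * (χ : G → ℂ) y * conj ((χ : G → ℂ) g) / (χ : G → ℂ) 1).re) : Prd x y g := by
  apply prd_of_ne_zero
  rw [sum_eq_mid hp hK hg]
  intro h0
  have h1 := congrArg Complex.re h0
  rw [Complex.add_re, Complex.one_re, Complex.zero_re] at h1
  linarith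

/-- **First form.** -/
theorem prd_of_mid_lt {p : ℕ} (hp : p.Prime) (hK : Kaw p G) {x y g : G} (hg : p ∣ orderOf g)
    [DecidablePred (IsMid p x y)]
    (h : ∑ χ ∈ Finset.univ.filter (IsMid p x y),
      ‖(χ : G → ℂ) x‖ * ‖(χ : G → ℂ) y‖ * ‖(χ : G → ℂ) g‖ / ‖(χ : G → ℂ) 1‖ < 1) : Prd x y g := by
  apply prd_of_ne_zero
  rw [sum_eq_mid hp hK hg]
  intro h0
  have h1 : ∑ χ ∈ Finset.univ.filter (IsMid p x y),
      (χ : G → ℂ) x * (χ : G → ℂ) y * conj ((χ : G → ℂ) g) / (χ : G → ℂ) 1 = -1 := by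
    linear_combination h0
  have h2 := norm_sum_le (Finset.univ.filter (IsMid p x y))
    (fun χ : IrrCharacter G => (χ : G → ℂ) x * (χ : G → ℂ) y * conj ((χ : G → ℂ) g) / (χ : G → ℂ) 1)
  rw [h1, norm_neg, norm_one] at h2
  have h3 : ∀ χ : IrrCharacter G, ‖(χ : G → ℂ) x * (χ : G → ℂ) y * conj ((χ : G → ℂ) g) / (χ : G → ℂ) 1‖ =
      ‖(χ : G → ℂ) x‖ * ‖(χ : G → ℂ) y‖ * ‖(χ : G → ℂ) g‖ / ‖(χ : G → ℂ) 1‖ := by
    intro χ
    rw [norm_div, norm_mul, norm_mul, Complex.norm_conj]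
  simp only [h3] at h2
  linarith

omit [IsSimpleGroup G] in
/-- the sum of the squares over the middle characters -/
theorem sum_mid_sq_le {p : ℕ} (hp : p.Prime) (hK : Kaw p G) {x y g : G} [DecidablePred (IsMid p x y)] :
    ∑ χ ∈ Finset.univ.filter (IsMid p x y), ‖(χ : G → ℂ) g‖ ^ 2 ≤
      (Nat.card (Subgroup.centralizer ({g} : Set G)) : ℝ) - 1 := by
  classical
  rw [← sum_erase_sq]
  refine Finset.sum_le_sum_of_subset_of_nonneg (fun χ hχ => ?_) fun _ _ _ => by positivity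
  rw [Finset.mem_filter] at hχ
  rw [Finset.mem_erase]
  exact ⟨fun h => not_mid_one hp hK x y (h ▸ hχ.2), Finset.mem_univ _⟩

/-- **The sieve.** -/
theorem prd_of_mid_sieve {p : ℕ} (hp : p.Prime) (hK : Kaw p G) {x y g : G} (hg : p ∣ orderOf g)
    [DecidablePred (IsMid p x y)] {D : ℝ} (hD0 : 0 < D)
    (hD : ∀ χ : IrrCharacter G, IsMid p x y χ → D ≤ ‖(χ : G → ℂ) 1‖)
    (h : (∑ χ ∈ Finset.univ.filter (IsMid p x y), (‖(χ : G → ℂ) x‖ * ‖(χ : G → ℂ) y‖) ^ 2) *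
      ((Nat.card (Subgroup.centralizer ({g} : Set G)) : ℝ) - 1) < D ^ 2) : Prd x y g := by
  classical
  apply prd_of_mid_lt hp hK hg
  have h1 := Finset.sum_mul_sq_le_sq_mul_sq (Finset.univ.filter (IsMid p x y))
    (fun χ : IrrCharacter G => ‖(χ : G → ℂ) x‖ * ‖(χ : G → ℂ) y‖) (fun χ : IrrCharacter G => ‖(χ : G → ℂ) g‖)
  have h2 : (∑ χ ∈ Finset.univ.filter (IsMid p x y), ‖(χ : G → ℂ) x‖ * ‖(χ : G → ℂ) y‖ * ‖(χ : G → ℂ) g‖) ^ 2 <
      D ^ 2 := by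
    refine h1.trans_lt (lt_of_le_of_lt ?_ h)
    exact mul_le_mul_of_nonneg_left (sum_mid_sq_le hp hK) (Finset.sum_nonneg fun _ _ => by positivity)
  have h3 : ∑ χ ∈ Finset.univ.filter (IsMid p x y), ‖(χ : G → ℂ) x‖ * ‖(χ : G → ℂ) y‖ * ‖(χ : G → ℂ) g‖ < D :=
    lt_of_pow_lt_pow_left₀ 2 hD0.le h2
  calc ∑ χ ∈ Finset.univ.filter (IsMid p x y),
        ‖(χ : G → ℂ) x‖ * ‖(χ : G → ℂ) y‖ * ‖(χ : G → ℂ) g‖ / ‖(χ : G → ℂ) 1‖
      ≤ ∑ χ ∈ Finset.univ.filter (IsMid p x y), ‖(χ : G → ℂ) x‖ * ‖(χ : G → ℂ) y‖ * ‖(χ : G → ℂ) g‖ / D := by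
        refine Finset.sum_le_sum fun χ hχ => ?_
        have h4 := hD χ (Finset.mem_filter.1 hχ).2
        gcongr
    _ = (∑ χ ∈ Finset.univ.filter (IsMid p x y), ‖(χ : G → ℂ) x‖ * ‖(χ : G → ℂ) y‖ * ‖(χ : G → ℂ) g‖) / D := by
        rw [Finset.sum_div]
    _ < 1 := by rw [div_lt_one hD0]; exact h3

/-- at most `n` middle characters with `|χ(x) χ(y)| ≤ 1` -/
theorem prd_of_mid_card {p : ℕ} (hp : p.Prime) (hK : Kaw p G) {x y g : G} (hg : p ∣ orderOf g)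
    [DecidablePred (IsMid p x y)] {D : ℝ} (hD0 : 0 < D) {n : ℕ}
    (hn : (Finset.univ.filter (IsMid p x y)).card ≤ n)
    (h1 : ∀ χ : IrrCharacter G, IsMid p x y χ → ‖(χ : G → ℂ) x‖ * ‖(χ : G → ℂ) y‖ ≤ 1)
    (hD : ∀ χ : IrrCharacter G, IsMid p x y χ → D ≤ ‖(χ : G → ℂ) 1‖)
    (h : (n : ℝ) * ((Nat.card (Subgroup.centralizer ({g} : Set G)) : ℝ) - 1) < D ^ 2) : Prd x y g := by
  refine prd_of_mid_sieve hp hK hg hD0 hD (lt_of_le_of_lt ?_ h)
  have hc : (0 : ℝ) ≤ (Nat.card (Subgroup.centralizer ({g} : Set G)) : ℝ) - 1 := by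
    have : 1 ≤ Nat.card (Subgroup.centralizer ({g} : Set G)) := Nat.card_pos
    have : (1 : ℝ) ≤ (Nat.card (Subgroup.centralizer ({g} : Set G)) : ℝ) := by exact_mod_cast this
    linarith
  refine mul_le_mul_of_nonneg_right ?_ hc
  calc ∑ χ ∈ Finset.univ.filter (IsMid p x y), (‖(χ : G → ℂ) x‖ * ‖(χ : G → ℂ) y‖) ^ 2
      ≤ ∑ _χ ∈ Finset.univ.filter (IsMid p x y), (1 : ℝ) := by
        refine Finset.sum_le_sum fun χ hχ => ?_
        exact pow_le_one₀ (by positivity) (h1 χ (Finset.mem_filter.1 hχ).2)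
    _ = ((Finset.univ.filter (IsMid p x y)).card : ℝ) := by simp
    _ ≤ n := by exact_mod_cast hn

/-- ratio form -/
theorem prd_of_mid_ratio {p : ℕ} (hp : p.Prime) (hK : Kaw p G) {x y g : G} (hg : p ∣ orderOf g)
    [DecidablePred (IsMid p x y)] {ρ : ℝ} {n : ℕ} (hn : (Finset.univ.filter (IsMid p x y)).card ≤ n)
    (h1 : ∀ χ : IrrCharacter G, IsMid p x y χ → ‖(χ : G → ℂ) x‖ * ‖(χ : G → ℂ) y‖ ≤ 1) (hρ0 : 0 ≤ ρ)
    (hρ : ∀ χ : IrrCharacter G, IsMid p x y χ → ‖(χ : G → ℂ) g‖ ≤ ρ * ‖(χ : G → ℂ) 1‖)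
    (h : (n : ℝ) * ρ < 1) : Prd x y g := by
  refine prd_of_mid_lt hp hK hg (lt_of_le_of_lt ?_ h)
  calc ∑ χ ∈ Finset.univ.filter (IsMid p x y),
        ‖(χ : G → ℂ) x‖ * ‖(χ : G → ℂ) y‖ * ‖(χ : G → ℂ) g‖ / ‖(χ : G → ℂ) 1‖
      ≤ ∑ _χ ∈ Finset.univ.filter (IsMid p x y), ρ := by
        refine Finset.sum_le_sum fun χ hχ => ?_
        have h2 := (Finset.mem_filter.1 hχ).2
        have h3 : (0 : ℝ) < ‖(χ : G → ℂ) 1‖ := by
          rw [norm_pos_iff]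
          exact Core.isIrr_apply_one_ne_zero χ.2
        rw [div_le_iff₀ h3]
        calc ‖(χ : G → ℂ) x‖ * ‖(χ : G → ℂ) y‖ * ‖(χ : G → ℂ) g‖ ≤ 1 * ‖(χ : G → ℂ) g‖ :=
              mul_le_mul_of_nonneg_right (h1 χ h2) (norm_nonneg _)
          _ = ‖(χ : G → ℂ) g‖ := one_mul _
          _ ≤ ρ * ‖(χ : G → ℂ) 1‖ := hρ χ h2
    _ = ((Finset.univ.filter (IsMid p x y)).card : ℝ) * ρ := by simp
    _ ≤ n * ρ := mul_le_mul_of_nonneg_right (by exact_mod_cast hn) hρ0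

/-- **Families**: the middle characters split into families (`f χ` = the index) on which `χ(g) / χ(1) = ρ i`; the weight
of a family is `w i = ∑ χ(x) χ(y)`. -/
theorem prd_of_mid_fam {p : ℕ} (hp : p.Prime) (hK : Kaw p G) {x y g : G} (hg : p ∣ orderOf g)
    [DecidablePred (IsMid p x y)] {ι : Type*} [DecidableEq ι] (s : Finset ι) (f : IrrCharacter G → ι) (ρ : ι → ℂ)
    (w : ι → ℂ) (hs : ∀ χ : IrrCharacter G, IsMid p x y χ → f χ ∈ s)
    (hρ : ∀ χ : IrrCharacter G, IsMid p x y χ → (χ : G → ℂ) g = ρ (f χ) * (χ : G → ℂ) 1)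
    (hw : ∀ i ∈ s, ∑ χ ∈ (Finset.univ.filter (IsMid p x y)).filter (fun χ => f χ = i),
      (χ : G → ℂ) x * (χ : G → ℂ) y = w i)
    (h : ∑ i ∈ s, ‖w i‖ * ‖ρ i‖ < 1) : Prd x y g := by
  classical
  apply prd_of_ne_zero
  rw [sum_eq_mid hp hK hg]
  have hconj : ∀ χ : IrrCharacter G, conj ((χ : G → ℂ) 1) = (χ : G → ℂ) 1 := by
    intro χ
    rw [← H686.CharKit.charDegree_irr χ, Complex.conj_natCast]
  have h1 : ∑ χ ∈ Finset.univ.filter (IsMid p x y),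
      (χ : G → ℂ) x * (χ : G → ℂ) y * conj ((χ : G → ℂ) g) / (χ : G → ℂ) 1 = ∑ i ∈ s, w i * conj (ρ i) := by
    rw [← Finset.sum_fiberwise_of_maps_to (t := s) (g := f) fun χ hχ => hs χ (Finset.mem_filter.1 hχ).2]
    refine Finset.sum_congr rfl fun i hi => ?_
    rw [← hw i hi, Finset.sum_mul]
    refine Finset.sum_congr rfl fun χ hχ => ?_
    rw [Finset.mem_filter] at hχ
    have h2 := (Finset.mem_filter.1 hχ.1).2
    have h3 := Core.isIrr_apply_one_ne_zero χ.2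
    rw [hρ χ h2, map_mul, hconj, hχ.2, mul_div_assoc, mul_div_assoc, div_self h3, mul_one]
  rw [h1]
  intro h0
  have h2 : ∑ i ∈ s, w i * conj (ρ i) = -1 := by linear_combination h0
  have h3 := norm_sum_le s (fun i => w i * conj (ρ i))
  rw [h2, norm_neg, norm_one] at h3
  have h4 : ∀ i, ‖w i * conj (ρ i)‖ = ‖w i‖ * ‖ρ i‖ := fun i => by rw [norm_mul, Complex.norm_conj]
  simp only [h4] at h3
  linarith

end Cfsg.Agent.H727.TC
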